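import Mathlib.CategoryTheory.ObjectProperty.Ind
import Mathlib.CategoryTheory.Limits.Preserves.Filtered
import Mathlib.CategoryTheory.Limits.Types.Filtered

/-!
A functor which is fully faithful on a class of presentable objects is fully faithful on their filtered colimits.
-/

universe w v u₁ u₂

namespace Groth.Agent.FSchInd

open CategoryTheory CategoryTheory.Limits Opposite

variable {C : Type u₁} [Category.{v} C] {D : Type u₂} [Category.{v} D] (F : C ⥤ D) (P : ObjectProperty C)

/-- fully faithful on a class of objects -/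
def FFOn : Prop := ∀ {G H : C}, P G → P H → Function.Bijective (fun φ : G ⟶ H => F.map φ)

variable {F P}

/-- maps out of a member into a filtered colimit of members -/
theorem bijective_map_of_mem (hff : FFOn F P)
    {J : Type v} [SmallCategory J] [IsFiltered J] {H : C} (q : ColimitPresentation J H) (hq : ∀ j, P (q.diag.obj j))
    [PreservesColimit q.diag F] {G : C} (hG : P G)
    [PreservesColimit q.diag (coyoneda.obj (op G))]
    [PreservesColimit (q.diag ⋙ F) (coyoneda.obj (op (F.obj G)))] :
    Function.Bijective (fun φ : G ⟶ H => F.map φ) := by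
  have hc := isColimitOfPreserves (coyoneda.obj (op G)) q.isColimit
  have hc' := isColimitOfPreserves (coyoneda.obj (op (F.obj G))) (isColimitOfPreserves F q.isColimit)
  constructor
  · intro a b e
    obtain ⟨j, x, (rfl : x ≫ q.ι.app j = a)⟩ := Types.jointly_surjective _ hc a
    obtain ⟨i, y, (rfl : y ≫ q.ι.app i = b)⟩ := Types.jointly_surjective _ hc b
    simp only [Functor.map_comp] at e
    obtain ⟨k, f, g, h⟩ := (Types.FilteredColimit.isColimit_eq_iff _ hc' (xi := F.map x) (xj := F.map y)).1 e
    replace h : F.map x ≫ F.map (q.diag.map f) = F.map y ≫ F.map (q.diag.map g) := h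
    rw [← F.map_comp, ← F.map_comp] at h
    have h' := (hff hG (hq k)).1 h
    rw [← q.w f, ← q.w g, ← Category.assoc, ← Category.assoc, h']
  · intro ψ
    obtain ⟨j, x, (rfl : x ≫ F.map (q.ι.app j) = ψ)⟩ := Types.jointly_surjective _ hc' ψ
    obtain ⟨a, rfl⟩ := (hff hG (hq j)).2 x
    exact ⟨a ≫ q.ι.app j, F.map_comp _ _⟩

/-- maps between filtered colimits of members -/
theorem bijective_map (hff : FFOn F P)
    (hC : ∀ {G : C}, P G → ∀ {J : Type v} [SmallCategory J] [IsFiltered J] (K : J ⥤ C),
      PreservesColimit K (coyoneda.obj (op G)))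
    (hD : ∀ {G : C}, P G → ∀ {J : Type v} [SmallCategory J] [IsFiltered J] (K : J ⥤ D),
      PreservesColimit K (coyoneda.obj (op (F.obj G))))
    [PreservesColimitsOfSize.{v, v} F] {G H : C} (hG : ObjectProperty.ind.{v} P G) (hH : ObjectProperty.ind.{v} P H) :
    Function.Bijective (fun φ : G ⟶ H => F.map φ) := by
  obtain ⟨J, _, _, p, hp⟩ := hG
  obtain ⟨K, _, _, q, hq⟩ := hH
  have hb : ∀ j, Function.Bijective (fun φ : p.diag.obj j ⟶ H => F.map φ) := fun j =>
    haveI := hC (hp j) q.diag
    haveI := hD (hp j) (q.diag ⋙ F)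
    bijective_map_of_mem hff q hq (hp j)
  have hc' := isColimitOfPreserves F p.isColimit
  constructor
  · intro a b e
    refine p.isColimit.hom_ext fun j => (hb j).1 ?_
    show F.map (p.ι.app j ≫ a) = F.map (p.ι.app j ≫ b)
    rw [F.map_comp, F.map_comp]
    exact congrArg (_ ≫ ·) e
  · intro ψ
    choose φ hφ using fun j => (hb j).2 (F.map (p.ι.app j) ≫ ψ)
    dsimp only at hφ
    let c : Cocone p.diag :=
      { pt := H
        ι := { app := φ
               naturality := fun {i j} f => (hb i).1 <| by
                show F.map (p.diag.map f ≫ φ j) = F.map (φ i ≫ 𝟙 H)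
                rw [Category.comp_id, F.map_comp, hφ, hφ, ← Category.assoc, ← F.map_comp, p.w f] } }
    refine ⟨p.isColimit.desc c, hc'.hom_ext fun j => ?_⟩
    show F.map (p.ι.app j) ≫ F.map (p.isColimit.desc c) = F.map (p.ι.app j) ≫ ψ
    rw [← F.map_comp]
    exact (congrArg F.map (p.isColimit.fac c j)).trans (hφ j)

/-- a filtered colimit of images of members is the image of such a colimit -/
theorem exists_lift (hff : FFOn F P) {Q : ObjectProperty D} (hQ : ∀ d, Q d → ∃ G, P G ∧ Nonempty (F.obj G ≅ d))
    [HasColimitsOfSize.{v, v} C] [PreservesColimitsOfSize.{v, v} F] {d : D} (hd : ObjectProperty.ind.{v} Q d) :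
    ∃ G, ObjectProperty.ind.{v} P G ∧ Nonempty (F.obj G ≅ d) := by
  obtain ⟨J, _, _, p, hp⟩ := hd
  choose G hG e using fun j => hQ _ (hp j)
  let e' : ∀ j, F.obj (G j) ≅ p.diag.obj j := fun j => (e j).some
  choose t ht using fun (i j : J) (f : i ⟶ j) => (hff (hG i) (hG j)).2 ((e' i).hom ≫ p.diag.map f ≫ (e' j).inv)
  dsimp only at ht
  let K : J ⥤ C :=
    { obj := G
      map := fun {i j} f => t i j f
      map_id := fun i => (hff (hG i) (hG i)).1 <| by
        show F.map (t i i (𝟙 i)) = F.map (𝟙 _)
        rw [ht]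
        simp
      map_comp := fun {i j k} f g => (hff (hG i) (hG k)).1 <| by
        show F.map (t i k (f ≫ g)) = F.map (t i j f ≫ t j k g)
        rw [F.map_comp, ht, ht, ht]
        simp }
  let E : K ⋙ F ≅ p.diag := NatIso.ofComponents e' fun {i j} f => by
    show F.map (t i j f) ≫ (e' j).hom = (e' i).hom ≫ p.diag.map f
    rw [ht]
    simp
  exact ⟨colimit K, ⟨J, inferInstance, inferInstance, ColimitPresentation.colimit K, hG⟩,
    ⟨(isColimitOfPreserves F (colimit.isColimit K)).coconePointsIsoOfNatIso p.isColimit E⟩⟩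

end Groth.Agent.FSchInd
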