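import Groth.Agent.FSchExist.Detect
import Groth.Agent.FSchCoh.Compare
import Groth.Agent.FSchCoh.Hom
import Groth.Agent.W7Rees.HomFull

/-!
The inverse image to the completion of a proper scheme is fully faithful on coherent modules.
-/

universe u

open CategoryTheory CategoryTheory.Limits AlgebraicGeometry TopologicalSpace Opposite
open Groth.Agent.FormAlg (sysObj sysPull sysTn pullPullIso adjMap sysPull_hom pullPullIso_natural)

set_option autoImplicit false
set_option maxHeartbeats 1000000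
set_option backward.isDefEq.respectTransparency false
set_option backward.isDefEq.respectTransparency.types false
set_option linter.style.haveILetI false

noncomputable section

namespace Groth.Agent.FSchInd

section Gen

variable {X : Scheme.{u}} (𝔛 : FSch.Sys.{u}) (h : 𝔛.IsLocNoethFormal) (g : ∀ n, 𝔛.X n ⟶ X)
  (hg : ∀ n, 𝔛.ι n ≫ g (n + 1) = g n)

theorem cmpG_natural {F G : X.Modules} (u : F ⟶ G) (w : FSchCoh.gMod 𝔛 g hg F ⟶ FSchCoh.gMod 𝔛 g hg G)
    (hw : ∀ n, w.app n = (Scheme.Modules.pullback (g n)).map u) :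
    (FSch.toSchemeMor 𝔛 h.1 g hg).pull.map u ≫ FSchCoh.cmpG 𝔛 h.1 g hg G =
      FSchCoh.cmpG 𝔛 h.1 g hg F ≫ FSch.ModSys.realModMap h.1 w := by
  refine FSchCoh.realMod_hom_ext 𝔛 h fun k => ?_
  rw [Category.assoc, Category.assoc, FSchCoh.cmpG_proj, FSchCoh.realModMap_proj 𝔛 h w k, hw, ← Category.assoc,
    FSchCoh.cmpG_proj, FSchCoh.cmpK, FSchCoh.cmpK, ← Adjunction.homEquiv_naturality_left_symm,
    ← Adjunction.homEquiv_naturality_right_symm]
  refine congrArg _ ?_
  have h1 := (Scheme.Modules.pullbackPushforwardAdjunction (g k)).unit.naturality u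
  have h2 := (FSch.schPushCompare 𝔛 h.1 g hg k).naturality ((Scheme.Modules.pullback (g k)).map u)
  rw [← Category.assoc]
  refine (congrArg (· ≫ _) h1).trans ?_
  rw [Category.assoc, Category.assoc]
  exact congrArg (_ ≫ ·) h2

theorem pull_map_bijective_gen [IsLocallyNoetherian X] {F G : X.Modules} (hF : Coh.IsCoh F) (hG : Coh.IsCoh G)
    (hM : (FSchCoh.gMod 𝔛 g hg F).IsCoh)
    (w : (F ⟶ G) → (FSchCoh.gMod 𝔛 g hg F ⟶ FSchCoh.gMod 𝔛 g hg G))
    (hw : ∀ φ n, (w φ).app n = (Scheme.Modules.pullback (g n)).map φ) (hb : Function.Bijective w) :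
    Function.Bijective (fun φ : F ⟶ G => (FSch.toSchemeMor 𝔛 h.1 g hg).pull.map φ) := by
  haveI h1 := FSchCoh.isIso_cmpG 𝔛 g hg F h hF
  haveI h2 := FSchCoh.isIso_cmpG 𝔛 g hg G h hG
  have hn : ∀ φ : F ⟶ G, (FSch.toSchemeMor 𝔛 h.1 g hg).pull.map φ ≫ FSchCoh.cmpG 𝔛 h.1 g hg G =
      FSchCoh.cmpG 𝔛 h.1 g hg F ≫ FSch.ModSys.realModMap h.1 (w φ) := fun φ =>
    cmpG_natural 𝔛 h g hg φ (w φ) (hw φ)
  have hb' := (FSchCoh.realModMap_bijective 𝔛 h hM (𝔑 := FSchCoh.gMod 𝔛 g hg G)).comp hb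
  constructor
  · intro a b e
    refine hb'.1 ?_
    show FSch.ModSys.realModMap _ (w a) = FSch.ModSys.realModMap _ (w b)
    refine (cancel_epi (FSchCoh.cmpG 𝔛 h.1 g hg F)).1 ?_
    exact ((hn a).symm.trans (congrArg (· ≫ _) e)).trans (hn b)
  · intro ψ
    obtain ⟨φ, hφ⟩ := hb'.2 (inv (FSchCoh.cmpG 𝔛 h.1 g hg F) ≫ ψ ≫ FSchCoh.cmpG 𝔛 h.1 g hg G)
    refine ⟨φ, (cancel_mono (FSchCoh.cmpG 𝔛 h.1 g hg G)).1 ?_⟩
    exact (hn φ).trans ((congrArg (_ ≫ ·) hφ).trans (IsIso.hom_inv_id_assoc _ _))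

end Gen

variable {A : Type u} [CommRing A] {X : Scheme.{u}} [X.Over (Spec (CommRingCat.of A))] {𝓘 : X.IdealSheafData}

local notation "j" => FSch.completionToX X 𝓘

variable (F G : X.Modules)

/-- the level maps to the direct images of a morphism of completions -/
def homLevel (χ : FSch.complMod 𝓘 F ⟶ FSch.complMod 𝓘 G) (n : ℕ) : F ⟶ sysObj (FSch.complMod 𝓘 G) n :=
  (Scheme.Modules.pullbackPushforwardAdjunction (j n)).homEquiv _ _ (χ.app n)

theorem homLevel_trans (χ : FSch.complMod 𝓘 F ⟶ FSch.complMod 𝓘 G) (n : ℕ) :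
    homLevel F G χ (n + 1) ≫ sysTn (FSch.complMod 𝓘 G) n = homLevel F G χ n := by
  refine ((Scheme.Modules.pullbackPushforwardAdjunction (j n)).homEquiv _ _).symm.injective ?_
  rw [sysTn, ← Adjunction.homEquiv_naturality_left, Equiv.symm_apply_apply]
  refine Eq.trans ?_ (Equiv.symm_apply_apply _ _).symm
  refine (cancel_epi (pullPullIso n F).hom).1 ?_
  refine Eq.trans ?_ ((χ.comm n).trans (congrArg (· ≫ χ.app n) (FSchExist.complMod_e_hom F n)))
  rw [← Category.assoc, ← pullPullIso_natural, Category.assoc, ← sysPull_hom, ← Category.assoc, ← Functor.map_comp,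
    homLevel]
  exact congrArg (fun t => (Scheme.Modules.pullback _).map t ≫ ((FSch.complMod 𝓘 G).e n).hom)
    ((Adjunction.homEquiv_counit _ _ _ _).symm.trans (Equiv.symm_apply_apply _ _))

theorem homLevel_id (n : ℕ) :
    homLevel G G (𝟙 (FSch.complMod 𝓘 G)) n = (Scheme.Modules.pullbackPushforwardAdjunction (j n)).unit.app G :=
  (Adjunction.homEquiv_id _ _)

theorem homLevel_complModMap (φ : F ⟶ G) (n : ℕ) :
    homLevel F G (FSch.complModMap 𝓘 φ) n = φ ≫ (Scheme.Modules.pullbackPushforwardAdjunction (j n)).unit.app G := by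
  rw [homLevel, FSch.complModMap_app, Adjunction.homEquiv_unit]
  exact ((Scheme.Modules.pullbackPushforwardAdjunction (j n)).unit.naturality φ).symm

variable {F G} (I : Ideal A) [IsNoetherianRing A] [IsAdicComplete I A]
  [IsProper (X ↘ Spec (CommRingCat.of A))]
  (h𝓘 : ∀ V : X.affineOpens, 𝓘.ideal V = I.map (W7Cech.secRing A V.1))

include h𝓘 in
/-- The completion of modules is fully faithful on coherent modules. -/
theorem complModMap_bijective (hF : Coh.IsCoh F) (hG : Coh.IsCoh G) :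
    Function.Bijective (fun φ : F ⟶ G => FSch.complModMap 𝓘 φ) := by
  choose α hα using fun n => FSchExist.exists_iso_modPow_pow (j n) I (n + 1)
    (FSchExist.ker_completionToX I h𝓘 n) G
  have hs : ClSub.IsProperOver (X ↘ Spec (CommRingCat.of A)) (CohB1.support F ∩ CohB1.support G) :=
    ⟨(QC.isClosed_support hF.2).inter (QC.isClosed_support hG.2), inferInstance⟩
  have key : ∀ (φ : F ⟶ G) n, homLevel F G (FSch.complModMap 𝓘 φ) n ≫ (α n).inv = φ ≫ Formal.modPowπ I (n + 1) G :=
    fun φ n => by rw [homLevel_complModMap, Category.assoc, ← hα n, Category.assoc, Iso.hom_inv_id, Category.comp_id]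
  have hα' : ∀ n, (α (n + 1)).hom ≫ sysTn (FSch.complMod 𝓘 G) n = Formal.modPowTrans I (n + 1) G ≫ (α n).hom := by
    intro n
    refine coequalizer.hom_ext ?_
    show Formal.modPowπ I (n + 1 + 1) G ≫ (α (n + 1)).hom ≫ _ = Formal.modPowπ I (n + 1 + 1) G ≫ _ ≫ _
    rw [← Category.assoc, hα (n + 1), ← Category.assoc]
    refine Eq.trans ?_ ((congrArg (· ≫ (α n).hom) (Formal.modPowπ_trans I (n + 1) G)).trans (hα n)).symm
    have h1 := homLevel_trans G G (𝟙 (FSch.complMod 𝓘 G)) n
    rw [homLevel_id, homLevel_id] at h1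
    exact h1
  constructor
  · intro a b e
    have hk : ∀ n, a ≫ Formal.modPowπ I (n + 1) G = b ≫ Formal.modPowπ I (n + 1) G := fun n => by
      rw [← key a n, ← key b n]
      exact congrArg (fun χ => homLevel F G χ n ≫ (α n).inv) e
    obtain ⟨φ, -, hu⟩ := W7Rees.exists_unique_hom I hF hG hs (fun n => b ≫ Formal.modPowπ I n G) fun n => by
      exact (Category.assoc _ _ _).trans (congrArg (b ≫ ·) (Formal.modPowπ_trans I n G))
    refine (hu a fun n => ?_).trans (hu b fun n => rfl).symm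
    cases n with
    | succ k => exact hk k
    | zero => rw [← Formal.modPowπ_trans I 0 G, ← Category.assoc, hk, Category.assoc]
  · intro χ
    let g' : ∀ n, F ⟶ Formal.modPow I (n + 1) G := fun n => homLevel F G χ n ≫ (α n).inv
    have hg' : ∀ n, g' (n + 1) ≫ Formal.modPowTrans I (n + 1) G = g' n := fun n => by
      show (_ ≫ (α (n + 1)).inv) ≫ _ = _ ≫ (α n).inv
      rw [Category.assoc, Iso.eq_comp_inv, Category.assoc, Category.assoc, ← hα', Iso.inv_hom_id_assoc, homLevel_trans]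
    let g : ∀ n, F ⟶ Formal.modPow I n G := fun n => match n with
      | 0 => g' 0 ≫ Formal.modPowTrans I 0 G
      | k + 1 => g' k
    obtain ⟨φ, hφ, -⟩ := W7Rees.exists_unique_hom I hF hG hs g fun n => match n with
      | 0 => rfl
      | k + 1 => hg' k
    refine ⟨φ, FSch.ModSys.Hom.ext (funext fun n => ?_)⟩
    refine ((Scheme.Modules.pullbackPushforwardAdjunction (j n)).homEquiv _ _).injective ?_
    show homLevel F G (FSch.complModMap 𝓘 φ) n = homLevel F G χ n
    rw [← cancel_mono (α n).inv, key]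
    exact hφ (n + 1)

include h𝓘 in
/-- The inverse image to the completion is fully faithful on coherent modules. -/
theorem pull_map_bijective (hX : (FSch.completionAlong X 𝓘).IsFormal) (hF : Coh.IsCoh F) (hG : Coh.IsCoh G) :
    Function.Bijective (fun φ : F ⟶ G => (FSch.toSchemeMor (FSch.completionAlong X 𝓘) hX
      (FSch.completionToX X 𝓘) (FSch.completionToX_comm X 𝓘)).pull.map φ) := by
  haveI : IsLocallyNoetherian X := LocallyOfFiniteType.isLocallyNoetherian (X ↘ Spec (CommRingCat.of A))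
  exact pull_map_bijective_gen (FSch.completionAlong X 𝓘) (FSchExist.hL 𝓘) (FSch.completionToX X 𝓘)
    (FSch.completionToX_comm X 𝓘) hF hG (FSchExist.isCoh_complMod (𝓘 := 𝓘) hF)
    (fun φ => FSch.complModMap 𝓘 φ) (fun φ n => rfl) (complModMap_bijective I h𝓘 hF hG)

end Groth.Agent.FSchInd
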