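import Groth.Agent.FSchInd.Abstract
import Groth.Agent.FSchInd.Full
import Groth.Agent.FSchCoh.QCTColim
import Groth.Agent.FSchExist.Rows
import Groth.Agent.HomColim.Hom
import Groth.Agent.FPExt.Colim
import Groth.Agent.QCGen.Basic
import Groth.Agent.FSchFF.Completion

/-!
Ind-coherent modules on the completion of a proper scheme and quasi-coherent modules.
-/

universe u

open CategoryTheory CategoryTheory.Limits AlgebraicGeometry TopologicalSpace Opposite

set_option autoImplicit false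
set_option maxHeartbeats 1000000
set_option backward.isDefEq.respectTransparency false
set_option backward.isDefEq.respectTransparency.types false
set_option linter.style.haveILetI false

noncomputable section

namespace Groth.Agent.FSchInd

variable {X : Scheme.{u}}

theorem ind_isCoh [IsNoetherian X] (F : X.Modules) [hF : SheafOfModules.IsQuasicoherent.{u} F] :
    ObjectProperty.ind.{u} (fun G : X.Modules => Coh.IsCoh G) F := by
  obtain ⟨X₀, h, _, _, _, _⟩ := FPExt.exists_affineHom_noetherian X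
  haveI : F.IsQuasicoherent := hF
  obtain ⟨hc⟩ := FPExt.nonempty_isColimit_pairSys h F
  refine ObjectProperty.of_essentiallySmall_index ⟨FPExt.pairSys h F, _, hc⟩ fun p => ?_
  haveI := FPExt.isFP_pairSys h F p
  exact ⟨(inferInstance : ((FPExt.pairSys h F).obj p).IsQuasicoherent),
    ModDesc.isFT_of_isFP (FPExt.isFP_pairSys h F p)⟩

theorem isQuasicoherent_of_ind {F : X.Modules} (h : ObjectProperty.ind.{u} (fun G : X.Modules => Coh.IsCoh G) F) :
    SheafOfModules.IsQuasicoherent.{u} F := by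
  obtain ⟨J, _, _, p, hp⟩ := h
  exact ((QCohCat.isQCoh X).colimitsOfShape_le J) _ ⟨⟨p, fun j => (hp j).1⟩⟩

theorem preservesColimit_hom [IsNoetherian X] {G : X.Modules} (hG : Coh.IsCoh G) {J : Type u} [SmallCategory J]
    [IsFiltered J] (K : J ⥤ X.Modules) : PreservesColimit K (coyoneda.obj (op G)) := by
  have hQ : HomColim.QCRefines (Opens.grothendieckTopology X) := by
    refine HomColim.qcRefines_of_space (X := X.carrier) fun ι V hV => ?_
    obtain ⟨t, ht⟩ := (isCompact_univ (X := X)).elim_finite_subcover (fun i => (V i : Set X))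
      (fun i => (V i).isOpen) fun x _ => by
        obtain ⟨i, hi⟩ := Opens.mem_iSup.1 (show x ∈ iSup V from hV ▸ trivial)
        exact Set.mem_iUnion.2 ⟨i, hi⟩
    refine ⟨t, inferInstance, fun i => V i.1, Opens.ext (Set.eq_univ_of_forall fun x => ?_),
      fun j => ⟨j.1, le_rfl⟩, fun _ _ => NoetherianSpace.isCompact _⟩
    obtain ⟨i, hi, hxi⟩ := Set.mem_iUnion₂.1 (ht (Set.mem_univ x))
    exact Opens.mem_iSup.2 ⟨⟨i, hi⟩, hxi⟩
  haveI := hG.1
  haveI : SheafOfModules.IsFinitePresentation (R := ModSite.ringSh X.sheaf) G := QC.isFP_of_isQCoh_of_isFT hG.2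
  obtain ⟨q, hq⟩ := SheafOfModules.IsFinitePresentation.exists_quasicoherentData (R := ModSite.ringSh X.sheaf) G
  refine HomColim.preservesColimit_hom (O := X.sheaf) hQ G ?_ K
  intro _ D'
  exact HomColim.preservesColimit_sheafHom (O := X.sheaf) G q hq D'

variable {A : Type u} [CommRing A] [IsNoetherianRing A] (I : Ideal A) [IsAdicComplete I A]
  (f : X ⟶ Spec (CommRingCat.of A)) [IsProper f] {𝓘 : X.IdealSheafData} (h𝓘 : 𝓘 = (FSch.idealSpec A I).comap f)
  (hX : (FSch.completionAlong X 𝓘).IsFormal)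

set_option quotPrecheck false in
local notation "κ" => (FSch.toSchemeMor (FSch.completionAlong X 𝓘) hX (FSch.completionToX X 𝓘)
  (FSch.completionToX_comm X 𝓘)).pull

include f in
theorem isNoetherian : IsNoetherian X := by
  haveI : IsLocallyNoetherian X := LocallyOfFiniteType.isLocallyNoetherian f
  haveI : CompactSpace X := QuasiCompact.compactSpace_of_compactSpace f
  exact {}

include h𝓘 in
theorem ffOn : FFOn κ (fun G : X.Modules => Coh.IsCoh G) := fun {G H} hG hH => by
  letI : X.Over (Spec (CommRingCat.of A)) := ⟨f⟩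
  haveI : IsProper (X ↘ Spec (CommRingCat.of A)) := ‹IsProper f›
  exact pull_map_bijective I (fun V => by rw [h𝓘]; exact FSchExist.comap_idealSpec_ideal I V) hX hG hH

include h𝓘 in
theorem pull_bijective (G H : X.Modules) [hG : SheafOfModules.IsQuasicoherent.{u} G]
    [hH : SheafOfModules.IsQuasicoherent.{u} H] :
    Function.Bijective (fun φ : G ⟶ H => (κ).map φ) := by
  haveI := isNoetherian f
  haveI : CompactSpace ((FSch.completionAlong X 𝓘).X 0) :=
    QuasiCompact.compactSpace_of_compactSpace (FSch.completionToX X 𝓘 0)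
  haveI : PreservesColimitsOfSize.{u, u} κ := (FSch.toSchemeMor (FSch.completionAlong X 𝓘) hX
    (FSch.completionToX X 𝓘) (FSch.completionToX_comm X 𝓘)).adj.leftAdjoint_preservesColimits
  exact bijective_map (ffOn I f h𝓘 hX) (fun hM _ _ _ K => preservesColimit_hom hM K)
    (fun hM _ _ _ K => FSchCoh.preservesColimit_hom_coh (FSchExist.hL 𝓘) (FSchFF.isCohF_pull (𝓘 := 𝓘) hX _ hM) K)
    (ind_isCoh G) (ind_isCoh H)

include h𝓘 in
theorem ind_iff (𝔉 : FSch.ModF (FSch.completionAlong X 𝓘) hX) :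
    (ObjectProperty.ind.{u} fun 𝔊 : FSch.ModF (FSch.completionAlong X 𝓘) hX => FSch.IsCohF _ hX 𝔊) 𝔉 ↔
      ∃ G : X.Modules, SheafOfModules.IsQuasicoherent.{u} G ∧ Nonempty ((κ).obj G ≅ 𝔉) := by
  haveI := isNoetherian f
  haveI : PreservesColimitsOfSize.{u, u} κ := (FSch.toSchemeMor (FSch.completionAlong X 𝓘) hX
    (FSch.completionToX X 𝓘) (FSch.completionToX_comm X 𝓘)).adj.leftAdjoint_preservesColimits
  constructor
  · intro h
    have hQ : ∀ 𝔊, FSch.IsCohF (FSch.completionAlong X 𝓘) hX 𝔊 → ∃ G, Coh.IsCoh G ∧ Nonempty ((κ).obj G ≅ 𝔊) := by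
      intro 𝔊 h𝔊
      letI : X.Over (Spec (CommRingCat.of A)) := ⟨f⟩
      haveI : IsProper (X ↘ Spec (CommRingCat.of A)) := ‹IsProper f›
      obtain ⟨G, hG, -, ⟨e⟩⟩ := FSchExist.exists_algebraization (hX := hX) I
        h𝓘 𝔊 h𝔊
        ⟨FSchExist.isClosed_suppX h𝔊, inferInstance⟩
      haveI := FSchCoh.isIso_cmpG _ (FSch.completionToX X 𝓘) (FSch.completionToX_comm X 𝓘) G (FSchExist.hL 𝓘) hG
      exact ⟨G, hG, ⟨asIso (FSchCoh.cmpG _ hX (FSch.completionToX X 𝓘) (FSch.completionToX_comm X 𝓘) G) ≪≫ e.symm⟩⟩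
    obtain ⟨G, hG, hG'⟩ := exists_lift (ffOn I f h𝓘 hX) hQ h
    exact ⟨G, isQuasicoherent_of_ind hG, hG'⟩
  · rintro ⟨G, hG, ⟨e⟩⟩
    obtain ⟨J, _, _, p, hp⟩ := ind_isCoh G (hF := hG)
    exact ⟨J, ‹_›, ‹_›, (p.map κ).ofIso e, fun j => FSchFF.isCohF_pull (𝓘 := 𝓘) hX _ (hp j)⟩

end Groth.Agent.FSchInd
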